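import Mathlib
import Cfsg.Agent.PF.T3
import Cfsg.Agent.PF.Voc4
import Cfsg.Agent.Char.PermLemma
import Cfsg.Agent.Char.CliffordCorr

set_option autoImplicit false

/-!
# Peterfalvi, section 4: (4.5) and the uniqueness of `μ_ij` (owner: helper57)

The inputs proved elsewhere ((4.3): conjugacy to `W₁ W₂`, restriction to `K`) appear as hypotheses.
-/

namespace Cfsg.Agent.PF.F4b

open Cfsg Subgroup
open Cfsg.Agent.CharBase Cfsg.Agent.PF

universe u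
variable {G : Type u} [Group G] [Fintype G] {M K W₁ W₂ : Subgroup G} [Fintype ↥M]
  {μ : (↥W₁ →* ℂˣ) → (↥W₂ →* ℂˣ) → (↥M → ℂ)} {δ : (↥W₂ →* ℂˣ) → ℤ}

theorem comm_of_cyc {W : Subgroup G} (h : IsCyclic ↥W) : ∀ a b : ↥W, a * b = b * a := by
  letI := h
  exact fun a b => (IsCyclic.commGroup (α := ↥W)).mul_comm a b

theorem finite_dual {W : Subgroup G} (h : IsCyclic ↥W) : Finite (↥W →* ℂˣ) :=
  Nat.finite_of_card_ne_zero (by rw [card_dual_of_comm (comm_of_cyc h)]; exact Nat.card_pos.ne')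

theorem odd₁ (h : Hyp42 M K W₁ W₂) : Odd (Nat.card W₁) :=
  Odd.of_dvd_nat h.odd (Subgroup.card_dvd_of_le le_sup_left)

theorem odd₂ (h : Hyp42 M K W₁ W₂) : Odd (Nat.card W₂) :=
  Odd.of_dvd_nat h.odd (Subgroup.card_dvd_of_le le_sup_right)

/-- in a group of odd order a nontrivial element has nontrivial square. -/
theorem sq_ne_one {W : Subgroup G} (ho : Odd (Nat.card W)) {a : ↥W} (ha : a ≠ 1) : a ^ 2 ≠ 1 := by
  intro h
  apply ha
  have h1 : orderOf a ∣ 2 := orderOf_dvd_of_pow_eq_one h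
  have h2 : orderOf a ∣ Nat.card W := orderOf_dvd_natCard a
  have h3 : orderOf a ∣ Nat.gcd 2 (Nat.card W) := Nat.dvd_gcd h1 h2
  rw [Nat.Coprime.gcd_eq_one (Nat.coprime_two_left.2 ho)] at h3
  exact orderOf_eq_one_iff.1 (Nat.dvd_one.1 h3)

theorem sum_dual_eq_zero {W : Subgroup G} (hc : IsCyclic ↥W) [Fintype (↥W →* ℂˣ)] {a : ↥W} (ha : a ≠ 1) :
    ∑ i : ↥W →* ℂˣ, (i a : ℂ) = 0 := by
  classical
  have := H25.sum_dual_trivialOn (comm_of_cyc hc) (⊥ : Subgroup ↥W) (v := a) (by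
    rw [Subgroup.mem_bot]; exact ha)
  rw [← this]
  refine Finset.sum_subset_zero_on_sdiff (Finset.subset_univ _) ?_ (fun _ _ => rfl) |>.symm
  intro i hi
  exfalso
  rw [Finset.mem_sdiff, Finset.mem_filter] at hi
  apply hi.2
  refine ⟨Finset.mem_univ _, ?_⟩
  intro w hw
  rw [Subgroup.mem_bot] at hw
  rw [hw, map_one]

theorem unique (h : PrimeTI M K W₁ W₂ μ δ) {θ : ↥M → ℂ} (hθ : IsIrrCharacter ↥M θ) {ε : ℤ}
    (hε : ε = 1 ∨ ε = -1) (i : ↥W₁ →* ℂˣ) (j : ↥W₂ →* ℂˣ)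
    (hV : ∀ (x : ↥M) (a : ↥W₁) (b : ↥W₂), a ≠ 1 → b ≠ 1 → (x : G) = a * b → θ x = (ε : ℂ) * ((i a : ℂ) * (j b : ℂ))) :
    θ = μ i j ∧ ε = δ j := by
  have hab : ∀ (a : ↥W₁) (b : ↥W₂), (a : G) * b ∈ M := fun a b =>
    M.mul_mem (h.hyp.W₁_le a.2) (h.hyp.K_le (h.hyp.W₂_le b.2))
  obtain ⟨a0, ha0⟩ := Subgroup.ne_bot_iff_exists_ne_one.1 h.hyp.W₁_ne
  obtain ⟨b0, hb0⟩ := Subgroup.ne_bot_iff_exists_ne_one.1 h.hyp.W₂_ne
  have hε0 : (ε : ℂ) ≠ 0 := by rcases hε with e | e <;> rw [e] <;> simp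
  have hne : ∀ (i : ↥W₁ →* ℂˣ) (j : ↥W₂ →* ℂˣ) (a : ↥W₁) (b : ↥W₂), (i a : ℂ) * (j b : ℂ) ≠ 0 :=
    fun i j a b => mul_ne_zero (Units.ne_zero _) (Units.ne_zero _)
  have hex : ∃ i' j', θ = μ i' j' := by
    by_contra hcon
    push Not at hcon
    have h1 := h.vanish θ hθ hcon ⟨_, hab a0 b0⟩ a0 b0 ha0 rfl
    rw [hV ⟨_, hab a0 b0⟩ a0 b0 ha0 hb0 rfl] at h1
    exact (mul_ne_zero hε0 (hne i j a0 b0)) h1
  obtain ⟨i', j', rfl⟩ := hex
  have hδ0 : (δ j' : ℂ) ≠ 0 := by rcases h.sign j' with e | e <;> rw [e] <;> simp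
  have hsq : ∀ (e : ℤ), (e = 1 ∨ e = -1) → (e : ℂ) * e = 1 := by
    intro e he
    rcases he with e' | e' <;> rw [e'] <;> norm_num
  -- the product `φ a * ψ b` is the constant `ε δ`
  have key : ∀ (a : ↥W₁) (b : ↥W₂), a ≠ 1 → b ≠ 1 →
      (((i' * i⁻¹) a : ℂˣ) : ℂ) * (((j' * j⁻¹) b : ℂˣ) : ℂ) = (ε : ℂ) * δ j' := by
    intro a b ha hb
    have h1 := hV ⟨_, hab a b⟩ a b ha hb rfl
    rw [h.eq_on i' j' ⟨_, hab a b⟩ a b ha rfl] at h1
    have h2 : ((i' a : ℂˣ) : ℂ) * (j' b : ℂ) = (ε : ℂ) * δ j' * ((i a : ℂ) * (j b : ℂ)) := by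
      have h3 := congrArg (fun z => (δ j' : ℂ) * z) h1
      rw [← mul_assoc, hsq _ (h.sign j'), one_mul] at h3
      rw [h3]; ring
    rw [MonoidHom.mul_apply, MonoidHom.inv_apply, MonoidHom.mul_apply, MonoidHom.inv_apply, Units.val_mul,
      Units.val_mul, Units.val_inv_eq_inv_val, Units.val_inv_eq_inv_val]
    have hia : (i a : ℂ) ≠ 0 := Units.ne_zero _
    have hjb : (j b : ℂ) ≠ 0 := Units.ne_zero _
    field_simp
    linear_combination h2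
  have hs0 : (ε : ℂ) * δ j' ≠ 0 := mul_ne_zero hε0 hδ0
  have hφ : ∀ a : ↥W₁, (i' * i⁻¹) a = 1 := by
    intro a
    by_cases ha : a = 1
    · rw [ha, map_one]
    · have h1 := key a b0 ha hb0
      have h2 := key (a ^ 2) b0 (sq_ne_one (odd₁ h.hyp) ha) hb0
      rw [map_pow, Units.val_pow_eq_pow_val] at h2
      rw [← h2] at h1
      have h3 := mul_right_cancel₀ (Units.ne_zero _) h1
      have h4 : (((i' * i⁻¹) a : ℂˣ) : ℂ) ≠ 0 := Units.ne_zero _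
      apply Units.ext
      rw [Units.val_one]
      have h5 : (((i' * i⁻¹) a : ℂˣ) : ℂ) * (((i' * i⁻¹) a : ℂˣ) : ℂ) = (((i' * i⁻¹) a : ℂˣ) : ℂ) * 1 := by
        rw [mul_one, ← sq]; exact h3.symm
      exact mul_left_cancel₀ h4 h5
  have hψ : ∀ b : ↥W₂, (j' * j⁻¹) b = 1 := by
    intro b
    by_cases hb : b = 1
    · rw [hb, map_one]
    · have h1 := key a0 b ha0 hb
      have h2 := key a0 (b ^ 2) ha0 (sq_ne_one (odd₂ h.hyp) hb)
      rw [map_pow, Units.val_pow_eq_pow_val] at h2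
      rw [← h2] at h1
      have h3 := mul_left_cancel₀ (Units.ne_zero _) h1
      have h4 : (((j' * j⁻¹) b : ℂˣ) : ℂ) ≠ 0 := Units.ne_zero _
      apply Units.ext
      rw [Units.val_one]
      have h5 : (((j' * j⁻¹) b : ℂˣ) : ℂ) * (((j' * j⁻¹) b : ℂˣ) : ℂ) = (((j' * j⁻¹) b : ℂˣ) : ℂ) * 1 := by
        rw [mul_one, ← sq]; exact h3.symm
      exact mul_left_cancel₀ h4 h5
  have hi : i' = i := by
    apply MonoidHom.ext
    intro a
    have := hφ a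
    rw [MonoidHom.mul_apply, MonoidHom.inv_apply] at this
    exact mul_inv_eq_one.1 this
  have hj : j' = j := by
    apply MonoidHom.ext
    intro a
    have := hψ a
    rw [MonoidHom.mul_apply, MonoidHom.inv_apply] at this
    exact mul_inv_eq_one.1 this
  have h1 := key a0 b0 ha0 hb0
  rw [hφ, hψ, Units.val_one, mul_one] at h1
  refine ⟨by rw [hi, hj], ?_⟩
  rw [← hj]
  have h2 : ((ε * δ j' : ℤ) : ℂ) = ((1 : ℤ) : ℂ) := by push_cast; exact h1.symm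
  have h3 : ε * δ j' = 1 := by exact_mod_cast h2
  rcases hε with e | e <;> rcases h.sign j' with e' | e' <;> rw [e, e'] at h3 ⊢ <;> norm_num at h3 <;> rfl

theorem galois (h : PrimeTI M K W₁ W₂ μ δ) (σ : ℂ ≃+* ℂ) (i : ↥W₁ →* ℂˣ) (j : ↥W₂ →* ℂˣ) :
    (fun x => σ (μ i j x)) = μ (galChar σ i) (galChar σ j) ∧ δ (galChar σ j) = δ j := by
  have h1 := unique h (Char.isIrrCharacter_map σ (h.irr i j)) (h.sign j) (galChar σ i) (galChar σ j) (by
    intro x a b ha hb hx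
    change σ (μ i j x) = _
    rw [h.eq_on i j x a b ha hx, map_mul, map_mul, map_intCast]
    rfl)
  exact ⟨h1.1, h1.2.symm⟩

theorem conj (h : PrimeTI M K W₁ W₂ μ δ) (i : ↥W₁ →* ℂˣ) (j : ↥W₂ →* ℂˣ) :
    conjFun (μ i j) = μ i⁻¹ j⁻¹ ∧ δ j⁻¹ = δ j := by
  have := galois h (starRingAut : ℂ ≃+* ℂ) i j
  rw [galChar_conj, galChar_conj] at this
  exact this

theorem inner_self' (h : PrimeTI M K W₁ W₂ μ δ) (i : ↥W₁ →* ℂˣ) (j : ↥W₂ →* ℂˣ) :
    classInner (μ i j) (μ i j) = 1 := classInner_irr_self ⟨μ i j, h.irr i j⟩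

theorem inner_ne' (h : PrimeTI M K W₁ W₂ μ δ) {i i' : ↥W₁ →* ℂˣ} {j j' : ↥W₂ →* ℂˣ} (hne : i ≠ i' ∨ j ≠ j') :
    classInner (μ i j) (μ i' j') = 0 :=
  classInner_irr_of_ne (χ := ⟨μ i j, h.irr i j⟩) (ψ := ⟨μ i' j', h.irr i' j'⟩) (by
    intro e
    have := h.inj i j i' j' (congrArg Subtype.val e)
    rcases hne with e' | e'
    · exact e' this.1
    · exact e' this.2)

theorem inner_sum_self (h : PrimeTI M K W₁ W₂ μ δ) (j : ↥W₂ →* ℂˣ) :
    classInner (∑ᶠ i, μ i j) (∑ᶠ i, μ i j) = (Nat.card W₁ : ℂ) := by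
  classical
  haveI := finite_dual h.hyp.W₁_cyc
  haveI := Fintype.ofFinite (↥W₁ →* ℂˣ)
  rw [finsum_eq_sum_of_fintype, classInner_sum_left]
  have h1 : ∀ i ∈ (Finset.univ : Finset (↥W₁ →* ℂˣ)), classInner (μ i j) (∑ i', μ i' j) = 1 := by
    intro i _
    rw [classInner_sum_right, Finset.sum_eq_single i]
    · exact inner_self' h i j
    · intro b _ hb
      exact inner_ne' h (Or.inl (Ne.symm hb))
    · intro hi; exact absurd (Finset.mem_univ i) hi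
  rw [Finset.sum_congr rfl h1, Finset.sum_const, Finset.card_univ, nsmul_eq_mul, mul_one,
    ← Nat.card_eq_fintype_card, card_dual_of_comm (comm_of_cyc h.hyp.W₁_cyc)]

theorem inner_sum_ne (h : PrimeTI M K W₁ W₂ μ δ) {j j' : ↥W₂ →* ℂˣ} (hj : j ≠ j') :
    classInner (∑ᶠ i, μ i j) (∑ᶠ i, μ i j') = 0 := by
  classical
  haveI := finite_dual h.hyp.W₁_cyc
  haveI := Fintype.ofFinite (↥W₁ →* ℂˣ)
  rw [finsum_eq_sum_of_fintype, finsum_eq_sum_of_fintype, classInner_sum_left]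
  apply Finset.sum_eq_zero
  intro i _
  rw [classInner_sum_right]
  apply Finset.sum_eq_zero
  intro i' _
  exact inner_ne' h (Or.inr hj)

theorem sum_apply (h : PrimeTI M K W₁ W₂ μ δ) [Fintype (↥W₁ →* ℂˣ)] (j : ↥W₂ →* ℂˣ) (x : ↥M) :
    (∑ᶠ i, μ i j) x = ∑ i, μ i j x := by
  rw [finsum_eq_sum_of_fintype, Finset.sum_apply]

theorem isClass (h : PrimeTI M K W₁ W₂ μ δ) (i : ↥W₁ →* ℂˣ) (j : ↥W₂ →* ℂˣ) : IsClassFunction ↥M (μ i j) :=
  isClassFunction_of_isCharacter (isCharacter_of_isIrr (h.irr i j))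

theorem sum_vanish (h : PrimeTI M K W₁ W₂ μ δ)
    (hconj : ∀ x ∈ M, x ∉ K → ∃ m ∈ M, ∃ (a : ↥W₁) (b : ↥W₂), a ≠ 1 ∧ x = m * ((a : G) * b) * m⁻¹)
    (j : ↥W₂ →* ℂˣ) (x : ↥M) (hx : (x : G) ∉ K) :
    (∑ᶠ i, μ i j) x = 0 := by
  classical
  haveI := finite_dual h.hyp.W₁_cyc
  haveI := Fintype.ofFinite (↥W₁ →* ℂˣ)
  obtain ⟨m, hm, a, b, ha, hxe⟩ := hconj x x.2 hx
  have hab : (a : G) * b ∈ M := M.mul_mem (h.hyp.W₁_le a.2) (h.hyp.K_le (h.hyp.W₂_le b.2))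
  have hxe' : x = (⟨m, hm⟩ : ↥M) * ⟨(a : G) * b, hab⟩ * (⟨m, hm⟩ : ↥M)⁻¹ := Subtype.ext hxe
  have hv : ∀ i, μ i j x = (δ j : ℂ) * ((i a : ℂ) * (j b : ℂ)) := by
    intro i
    rw [hxe', isClass h i j]
    exact h.eq_on i j _ a b ha rfl
  rw [sum_apply h, Finset.sum_congr rfl (fun i _ => hv i), ← Finset.mul_sum, ← Finset.sum_mul,
    sum_dual_eq_zero h.hyp.W₁_cyc ha, zero_mul, mul_zero]

theorem normal_sub (h : Hyp42 M K W₁ W₂) : (K.subgroupOf M).Normal := by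
  constructor
  intro n hn g
  exact h.K_norm _ g.2 _ hn

theorem exists_mul (h : Hyp42 M K W₁ W₂) {m : G} (hm : m ∈ M) : ∃ k ∈ K, ∃ w ∈ W₁, m = k * w := by
  haveI := normal_sub h
  have h1 : (⟨m, hm⟩ : ↥M) ∈ K.subgroupOf M ⊔ W₁.subgroupOf M := by
    rw [← Subgroup.subgroupOf_sup h.K_le h.W₁_le, h.sup_eq, Subgroup.subgroupOf_self]
    trivial
  rw [← SetLike.mem_coe, Subgroup.normal_mul] at h1
  obtain ⟨k, hk, w, hw, hkw⟩ := h1
  exact ⟨k, hk, w, hw, (congrArg Subtype.val hkw).symm⟩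

theorem index_eq (h : Hyp42 M K W₁ W₂) : (K.subgroupOf M).index = Nat.card W₁ := by
  haveI := normal_sub h
  have h1 : K.subgroupOf M ⊔ W₁.subgroupOf M = ⊤ := by
    rw [← Subgroup.subgroupOf_sup h.K_le h.W₁_le, h.sup_eq, Subgroup.subgroupOf_self]
  rw [← Subgroup.relIndex_top_right, ← h1, Subgroup.relIndex_sup_left, ← Subgroup.inf_relIndex_right,
    show K.subgroupOf M ⊓ W₁.subgroupOf M = (K ⊓ W₁).subgroupOf M from rfl, h.inf_eq, Subgroup.bot_subgroupOf,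
    Subgroup.relIndex_bot_left]
  exact Nat.card_congr (Subgroup.subgroupOfEquivOfLe h.W₁_le).toEquiv

theorem ind_res (h : PrimeTI M K W₁ W₂ μ δ)
    (hconj : ∀ x ∈ M, x ∉ K → ∃ m ∈ M, ∃ (a : ↥W₁) (b : ↥W₂), a ≠ 1 ∧ x = m * ((a : G) * b) * m⁻¹)
    (hres : ∀ (i i' : ↥W₁ →* ℂˣ) (j : ↥W₂ →* ℂˣ) (x : ↥M), (x : G) ∈ K → μ i j x = μ i' j x)
    (i : ↥W₁ →* ℂˣ) (j : ↥W₂ →* ℂˣ) :
    indFun (K.subgroupOf M) (fun k => μ i j k) = ∑ᶠ i', μ i' j := by
  classical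
  haveI := normal_sub h.hyp
  haveI := finite_dual h.hyp.W₁_cyc
  haveI := Fintype.ofFinite (↥W₁ →* ℂˣ)
  funext x
  by_cases hx : (x : G) ∈ K
  · rw [sum_apply h]
    have h1 := Char.indFun_normal_of_invariant (K.subgroupOf M) (fun k => μ i j k)
      (fun g => Char.cj_restrict (K.subgroupOf M) g (isClass h i j)) ⟨x, hx⟩
    simp only [] at h1
    rw [h1, Finset.sum_congr rfl (fun i' _ => hres i' i j x hx), Finset.sum_const, Finset.card_univ, nsmul_eq_mul,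
      ← Nat.card_eq_fintype_card, card_dual_of_comm (comm_of_cyc h.hyp.W₁_cyc), index_eq h.hyp]
  · rw [sum_vanish h hconj j x hx]
    exact Char.indFun_normal_of_notMem (K.subgroupOf M) _ hx

/-- `W₁` centralizes `W₂`. -/
theorem comm₁₂ (h : Hyp42 M K W₁ W₂) {a b : G} (ha : a ∈ W₁) (hb : b ∈ W₂) : a * b = b * a := by
  by_cases ha1 : a = 1
  · rw [ha1, one_mul, mul_one]
  · have h1 : b ∈ K ⊓ Subgroup.centralizer ({a} : Set G) := by rw [h.cent a ha ha1]; exact hb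
    exact Subgroup.mem_centralizer_singleton_iff.1 h1.2 |>.symm

/-- an element commuting with `a * b`, `a` in `W₁`, `b` in `W₂`, commutes with `a`. -/
theorem comm_of_mul (h : Hyp42 M K W₁ W₂) {a b g : G} (ha : a ∈ W₁) (hb : b ∈ W₂)
    (hg : g * (a * b) = (a * b) * g) : g * a = a * g := by
  have h1 : (orderOf a).Coprime (orderOf b) := by
    apply Nat.Coprime.coprime_dvd_left (Subgroup.orderOf_dvd_natCard W₁ ha)
    exact Nat.Coprime.coprime_dvd_right (Subgroup.orderOf_dvd_natCard K (h.W₂_le hb)) h.cop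
  obtain ⟨k, hk1, hk2⟩ := Nat.chineseRemainder h1 1 0
  have h2 : (a * b) ^ k = a := by
    rw [(show Commute a b from comm₁₂ h ha hb).mul_pow]
    have h3 : a ^ k = a := by
      conv_rhs => rw [← pow_one a]
      exact pow_eq_pow_iff_modEq.2 hk1
    have h4 : b ^ k = 1 := by
      rw [← pow_zero b]
      exact pow_eq_pow_iff_modEq.2 hk2
    rw [h3, h4, mul_one]
  have h5 : Commute g (a * b) := hg
  have h6 := h5.pow_right k
  rw [h2] at h6
  exact h6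

theorem ind_cases (h : PrimeTI M K W₁ W₂ μ δ)
    (hconj : ∀ x ∈ M, x ∉ K → ∃ m ∈ M, ∃ (a : ↥W₁) (b : ↥W₂), a ≠ 1 ∧ x = m * ((a : G) * b) * m⁻¹)
    (hirr : ∀ (i : ↥W₁ →* ℂˣ) (j : ↥W₂ →* ℂˣ), IsIrrCharacter ↥(K.subgroupOf M) (fun k => μ i j k))
    (hinj : ∀ (j j' : ↥W₂ →* ℂˣ), (∀ k : ↥M, (k : G) ∈ K → μ 1 j k = μ 1 j' k) → j = j')
    (θ : ↥(K.subgroupOf M) → ℂ) (hθ : IsIrrCharacter ↥(K.subgroupOf M) θ) :
    IsIrrCharacter ↥M (indFun (K.subgroupOf M) θ) ∨ ∃ j, θ = fun k : ↥(K.subgroupOf M) => μ 1 j k := by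
  classical
  haveI := normal_sub h.hyp
  haveI := finite_dual h.hyp.W₂_cyc
  haveI := Fintype.ofFinite ↥(K.subgroupOf M)
  have hle := Char.le_inertia (K.subgroupOf M) (isClassFunction_of_isCharacter (isCharacter_of_isIrr hθ))
  by_cases hI : Char.inertia (K.subgroupOf M) θ ≤ K.subgroupOf M
  · left
    have hI' := le_antisymm hI hle
    have h1 := Char.card_mul_classInner_indFun (K.subgroupOf M) hθ
    rw [hI'] at h1
    have h2 : (Nat.card (K.subgroupOf M) : ℂ) ≠ 0 := Nat.cast_ne_zero.2 Nat.card_pos.ne'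
    have h3 : classInner (indFun (K.subgroupOf M) θ) (indFun (K.subgroupOf M) θ) = 1 := by
      apply mul_left_cancel₀ h2
      rw [mul_one]
      exact h1
    exact (isIrrCharacter_iff (Char.indFun_isCharacter _ _ (isCharacter_of_isIrr hθ))).2 h3
  · right
    rw [SetLike.not_le_iff_exists] at hI
    obtain ⟨x, hxI, hxK⟩ := hI
    have hxfix : Char.cj (K.subgroupOf M) x θ = θ := hxI
    -- the fixed classes meet `W₂`
    have hcount := Char.PL.card_fixed_irr_eq (G := ↥(K.subgroupOf M)) (Char.cjEquiv (K.subgroupOf M) x)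
      (fun χ => Char.isIrrCharacter_cj (K.subgroupOf M) x χ.2)
      (fun g k hgk => by
        rw [isConj_iff] at hgk ⊢
        obtain ⟨c, hc⟩ := hgk
        refine ⟨Char.cjEquiv (K.subgroupOf M) x c, ?_⟩
        rw [← hc, map_mul, map_mul, map_inv])
    have hW₂le : ∀ b : ↥W₂, (⟨b, h.hyp.K_le (h.hyp.W₂_le b.2)⟩ : ↥M) ∈ K.subgroupOf M := fun b => h.hyp.W₂_le b.2
    have hmeet : ∀ C : ConjClasses ↥(K.subgroupOf M),
        (∀ g, ConjClasses.mk g = C → IsConj (Char.cjEquiv (K.subgroupOf M) x g) g) →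
        ∃ b : ↥W₂, ConjClasses.mk (⟨⟨b, h.hyp.K_le (h.hyp.W₂_le b.2)⟩, hW₂le b⟩ : ↥(K.subgroupOf M)) = C := by
      intro C hC
      obtain ⟨g, rfl⟩ := ConjClasses.exists_rep C
      have h1 := hC g rfl
      rw [isConj_iff] at h1
      obtain ⟨c, hc⟩ := h1
      have h2 : ((c : ↥M) : G) * ((x : G) * ((g : ↥M) : G) * (x : G)⁻¹) * ((c : ↥M) : G)⁻¹ = ((g : ↥M) : G) :=
        congrArg (fun z : ↥(K.subgroupOf M) => ((z : ↥M) : G)) hc
      have h3 : ((c : ↥M) : G) * (x : G) ∉ K := fun h4 => hxK ((Subgroup.mul_mem_cancel_left K c.2).1 h4)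
      obtain ⟨m, hm, a, b, ha, hcx⟩ := hconj _ (M.mul_mem (c : ↥M).2 x.2) h3
      obtain ⟨k, hk, w, hw, hkw⟩ := exists_mul h.hyp hm
      have hgK : ((g : ↥M) : G) ∈ K := g.2
      have h4 : (m⁻¹ * ((g : ↥M) : G) * m) * ((a : G) * b) = ((a : G) * b) * (m⁻¹ * ((g : ↥M) : G) * m) := by
        have h5 : ((c : ↥M) : G) * (x : G) * ((g : ↥M) : G) = ((g : ↥M) : G) * (((c : ↥M) : G) * (x : G)) := by
          conv_rhs => rw [← h2]
          group
        rw [hcx] at h5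
        calc (m⁻¹ * ((g : ↥M) : G) * m) * ((a : G) * b)
            = m⁻¹ * (((g : ↥M) : G) * (m * ((a : G) * b) * m⁻¹)) * m := by group
          _ = m⁻¹ * (m * ((a : G) * b) * m⁻¹ * ((g : ↥M) : G)) * m := by rw [h5]
          _ = _ := by group
      have h5 := comm_of_mul h.hyp a.2 b.2 h4
      have h6 : m⁻¹ * ((g : ↥M) : G) * m ∈ W₂ := by
        rw [← h.hyp.cent a a.2 (fun e => ha (Subtype.ext e))]
        refine ⟨?_, Subgroup.mem_centralizer_singleton_iff.2 h5⟩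
        have := h.hyp.K_norm m⁻¹ (M.inv_mem hm) _ hgK
        rwa [inv_inv] at this
      refine ⟨⟨_, h6⟩, ?_⟩
      rw [ConjClasses.mk_eq_mk_iff_isConj, isConj_iff]
      refine ⟨⟨⟨k, h.hyp.K_le hk⟩, hk⟩, ?_⟩
      apply Subtype.ext
      apply Subtype.ext
      change k * (m⁻¹ * ((g : ↥M) : G) * m) * k⁻¹ = ((g : ↥M) : G)
      have h7 := comm₁₂ h.hyp hw h6
      have h8 : k * (m⁻¹ * ((g : ↥M) : G) * m) * k⁻¹ =
          m * (m⁻¹ * ((g : ↥M) : G) * m) * m⁻¹ := by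
        calc k * (m⁻¹ * ((g : ↥M) : G) * m) * k⁻¹
            = k * ((m⁻¹ * ((g : ↥M) : G) * m) * w) * w⁻¹ * k⁻¹ := by group
          _ = k * (w * (m⁻¹ * ((g : ↥M) : G) * m)) * w⁻¹ * k⁻¹ := by rw [h7]
          _ = (k * w) * (m⁻¹ * ((g : ↥M) : G) * m) * (k * w)⁻¹ := by group
          _ = _ := by rw [← hkw]
      rw [h8]; group
    have hle2 : Nat.card {C : ConjClasses ↥(K.subgroupOf M) // ∀ g, ConjClasses.mk g = C →
        IsConj (Char.cjEquiv (K.subgroupOf M) x g) g} ≤ Nat.card W₂ := by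
      apply Nat.card_le_card_of_injective
        (fun C : {C : ConjClasses ↥(K.subgroupOf M) // ∀ g, ConjClasses.mk g = C →
          IsConj (Char.cjEquiv (K.subgroupOf M) x g) g} => (hmeet C.1 C.2).choose)
      intro C C' hCC
      apply Subtype.ext
      rw [← (hmeet C.1 C.2).choose_spec, ← (hmeet C'.1 C'.2).choose_spec]
      simp only [] at hCC
      rw [hCC]
    let F : (↥W₂ →* ℂˣ) → {χ : IrrCharacter ↥(K.subgroupOf M) //
        (fun g => (χ : ↥(K.subgroupOf M) → ℂ) (Char.cjEquiv (K.subgroupOf M) x g)) = χ} := fun j =>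
      ⟨⟨fun k => μ 1 j k, hirr 1 j⟩, Char.cj_restrict (K.subgroupOf M) x (isClass h 1 j)⟩
    have hF : Function.Injective F := by
      intro j j' hjj
      have h1 : (fun k : ↥(K.subgroupOf M) => μ 1 j k) = fun k : ↥(K.subgroupOf M) => μ 1 j' k :=
        congrArg (fun z => ((z.1 : IrrCharacter ↥(K.subgroupOf M)) : ↥(K.subgroupOf M) → ℂ)) hjj
      exact hinj j j' (fun k hk => congrFun h1 ⟨k, hk⟩)
    have hbij : Function.Bijective F := by
      apply Function.Injective.bijective_of_nat_card_le hF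
      rw [hcount, card_dual_of_comm (comm_of_cyc h.hyp.W₂_cyc)]
      exact hle2
    obtain ⟨j, hj⟩ := hbij.2 ⟨⟨θ, hθ⟩, hxfix⟩
    refine ⟨j, ?_⟩
    have h1 := congrArg (fun z => ((z.1 : IrrCharacter ↥(K.subgroupOf M)) : ↥(K.subgroupOf M) → ℂ)) hj
    exact h1.symm

end Cfsg.Agent.PF.F4b
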